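import Mathlib

/-! Idempotents in rings with connected spectrum. -/

universe u

namespace Groth.Agent.ConnIdemSpec

theorem eq_zero_or_one {X : Type u} [CommRing X] [ConnectedSpace (PrimeSpectrum X)] {e : X}
    (he : IsIdempotentElem e) : e = 0 ∨ e = 1 := by
  have hc : IsClopen (PrimeSpectrum.basicOpen e : Set (PrimeSpectrum X)) := by
    rw [PrimeSpectrum.isClopen_iff]
    exact ⟨e, he, rfl⟩
  rcases isClopen_iff.1 hc with h | h
  · refine Or.inl (he.eq_zero_of_isNilpotent (nilpotent_iff_mem_prime.2 fun w hw => ?_))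
    by_contra hcon
    exact (Set.eq_empty_iff_forall_notMem.1 h) ⟨w, hw⟩ hcon
  · refine Or.inr ?_
    have h1 : IsNilpotent (1 - e) := nilpotent_iff_mem_prime.2 fun w hw => by
      have hew : e ∉ w := (Set.eq_univ_iff_forall.1 h) ⟨w, hw⟩
      refine (hw.mem_or_mem (show e * (1 - e) ∈ w from ?_)).resolve_left hew
      rw [mul_sub, mul_one, he.eq, sub_self]
      exact zero_mem _
    exact (sub_eq_zero.1 (he.one_sub.eq_zero_of_isNilpotent h1)).symm

/-- a point of an idempotent partition of unity -/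
theorem existsUnique_eq_one {X : Type u} [CommRing X] [ConnectedSpace (PrimeSpectrum X)] {ι : Type*} [Fintype ι]
    (e : ι → X) (he : ∀ i, IsIdempotentElem (e i)) (ho : ∀ i j, i ≠ j → e i * e j = 0) (hs : ∑ i, e i = 1) :
    ∃! i, e i = 1 := by
  haveI : Nontrivial X := by
    obtain ⟨p⟩ := (inferInstance : Nonempty (PrimeSpectrum X))
    exact ⟨⟨0, 1, fun h => p.isPrime.ne_top ((Ideal.eq_top_iff_one _).2 (h ▸ zero_mem _))⟩⟩
  obtain ⟨i, hi⟩ : ∃ i, e i = 1 := by
    by_contra! h
    rw [Finset.sum_eq_zero fun i _ => (eq_zero_or_one (he i)).resolve_right (h i)] at hs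
    exact zero_ne_one hs
  refine ⟨i, hi, fun j hj => ?_⟩
  by_contra hne
  simpa [hi, hj] using ho j i hne

end Groth.Agent.ConnIdemSpec
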